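import Groth.Agent.GrpSchLib.FinitePoints
import Groth.Agent.FlatLocus.ImmFibres
import Groth.Prelude.Def_SGA3x

/-!
Open subgroups with connected fibres are neutral components.
-/

set_option autoImplicit false
set_option backward.isDefEq.respectTransparency false
set_option backward.isDefEq.respectTransparency.types false
set_option linter.style.haveILetI false

universe u

open CategoryTheory CategoryTheory.Limits MonoidalCategory CartesianMonoidalCategory MonObj GrpObj AlgebraicGeometry

noncomputable section

namespace Groth.Agent.OpenSubgrp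

/-- Over a field an open connected subgroup is the neutral component. -/
theorem range_eq_connectedComponent {K : Type u} [Field K] {H N : Over (Spec (CommRingCat.of K))} [GrpObj H] [GrpObj N]
    (j : H ⟶ N) [IsMonHom j] [IsOpenImmersion j.left] [ConnectedSpace H.left] (p : ↥(𝟙_ (Over (Spec (CommRingCat.of K)))).left) :
    Set.range j.left = connectedComponent (η[N].left p) := by
  have hop : IsOpen (Set.range j.left) := j.left.isOpenEmbedding.isOpen_range
  have hcl := GrpSchLib.isClosed_range_of_isOpen j hop
  have hmem : η[N].left p ∈ Set.range j.left := ⟨η[H].left p, by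
    rw [← Scheme.Hom.comp_apply, ← Over.comp_left, IsMonHom.one_hom j]⟩
  exact Set.Subset.antisymm ((isConnected_range j.left.continuous).isPreconnected.subset_connectedComponent hmem)
    (IsClopen.connectedComponent_subset ⟨hcl, hop⟩ hmem)

variable {S : Scheme.{u}} {H N : Over S}

/-- The inclusion of the fibre. -/
abbrev ιs (X : Over S) (s : S) : (Red.bc (S.fromSpecResidueField s) X).left ⟶ X.left := pullback.fst _ _

theorem range_ιs (X : Over S) (s : S) : Set.range (ιs X s) = X.hom.base ⁻¹' {s} := X.hom.range_fiberι s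

theorem isEmbedding_ιs (X : Over S) (s : S) : Topology.IsEmbedding (ιs X s) := (X.hom.fiberι s).isEmbedding

/-- Base change to the fibre. -/
abbrev fib (s : S) (j : H ⟶ N) := (Over.pullback (S.fromSpecResidueField s)).map j

theorem fib_fiberι (s : S) (j : H ⟶ N) : (fib s j).left ≫ ιs N s = ιs H s ≫ j.left := by
  simp [fib, ιs]

theorem isPullback_fib (s : S) (j : H ⟶ N) :
    IsPullback (ιs H s) (fib s j).left j.left (ιs N s) := by
  refine IsPullback.of_bot (v₁₁ := (fib s j).left) (v₂₁ := pullback.snd N.hom (S.fromSpecResidueField s)) (v₂₂ := N.hom) ?_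
    (fib_fiberι s j).symm (IsPullback.of_hasPullback N.hom (S.fromSpecResidueField s))
  have h1 : (fib s j).left ≫ pullback.snd N.hom (S.fromSpecResidueField s) = pullback.snd H.hom (S.fromSpecResidueField s) := by
    simp [fib]
  rw [h1, Over.w j]
  exact IsPullback.of_hasPullback _ _

variable [GrpObj H] [GrpObj N]

/-- The unit of the fibre lies over the unit. -/
theorem fiberι_unit (s : S) (p : ↥(𝟙_ (Over (Spec (S.residueField s)))).left) :
    ιs N s (η[Red.bc (S.fromSpecResidueField s) N].left p) = η[N].left s := by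
  rw [← Scheme.Hom.comp_apply]
  have h : η[Red.bc (S.fromSpecResidueField s) N].left ≫ ιs N s =
      S.fromSpecResidueField s ≫ η[N].left := by
    simp [Red.bc, Functor.obj.η_def, ιs]
  rw [h, Scheme.Hom.comp_apply]
  congr 1
  exact Scheme.fromSpecResidueField_apply s p

theorem neutralSet_inter (s : S) :
    SGA3x.neutralSet N ∩ N.hom.base ⁻¹' {s} = connectedComponentIn (N.hom.base ⁻¹' {s}) (η[N].left s) := by
  ext x
  constructor
  · rintro ⟨hx, hxs⟩
    obtain ⟨p, hp⟩ := Set.mem_iUnion.1 hx
    have : (p : S) = s := by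
      have h := connectedComponentIn_subset _ _ hp
      exact (h : N.hom x = p).symm.trans hxs
    subst this
    exact hp
  · intro hx
    exact ⟨Set.mem_iUnion.2 ⟨s, hx⟩, connectedComponentIn_subset _ _ hx⟩

/-- The neutral component of a fibre. -/
theorem image_connectedComponent (s : S) (p : ↥(𝟙_ (Over (Spec (S.residueField s)))).left) :
    ιs N s '' connectedComponent (η[Red.bc (S.fromSpecResidueField s) N].left p) =
      SGA3x.neutralSet N ∩ N.hom.base ⁻¹' {s} := by
  rw [neutralSet_inter]
  have he := fiberι_unit (N := N) s p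
  have hemb := isEmbedding_ιs N s
  have hmem : η[N].left s ∈ N.hom.base ⁻¹' {s} := by rw [← he, ← range_ιs N s]; exact ⟨_, rfl⟩
  refine Set.Subset.antisymm ?_ ?_
  · refine (isPreconnected_connectedComponent.image _ hemb.continuous.continuousOn).subset_connectedComponentIn
      ⟨_, mem_connectedComponent, he⟩ ?_
    rintro _ ⟨y, -, rfl⟩
    rw [← range_ιs N s]; exact ⟨y, rfl⟩
  · intro x hx
    have hsub : connectedComponentIn (N.hom.base ⁻¹' {s}) (η[N].left s) ⊆ Set.range (ιs N s) := by
      rw [range_ιs N s]; exact connectedComponentIn_subset _ _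
    have hP : _root_.IsPreconnected (ιs N s ⁻¹' connectedComponentIn (N.hom.base ⁻¹' {s}) (η[N].left s)) :=
      hemb.isInducing.isPreconnected_image.1 (by
        rw [Set.image_preimage_eq_of_subset hsub]; exact isPreconnected_connectedComponentIn)
    obtain ⟨y, rfl⟩ := hsub hx
    exact ⟨y, hP.subset_connectedComponent (show ιs N s _ ∈ _ by rw [he]; exact mem_connectedComponentIn hmem) hx, rfl⟩

variable (j : H ⟶ N) [IsMonHom j] (hconn : ∀ s : S, _root_.IsConnected (H.hom.base ⁻¹' {s}))

include hconn in
omit [GrpObj H] in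
theorem connectedSpace_fibre (s : S) : ConnectedSpace (Red.bc (S.fromSpecResidueField s) H).left := by
  haveI : ConnectedSpace ↥(H.hom.base ⁻¹' {s}) := isConnected_iff_connectedSpace.1 (hconn s)
  exact (H.hom.fiberHomeo s).symm.surjective.connectedSpace (H.hom.fiberHomeo s).symm.continuous

include hconn in
theorem image_fibre (s : S) [IsOpenImmersion (fib s j).left] :
    j.left.base '' (H.hom.base ⁻¹' {s}) = SGA3x.neutralSet N ∩ N.hom.base ⁻¹' {s} := by
  haveI := connectedSpace_fibre hconn s
  obtain ⟨p⟩ : Nonempty ↥(𝟙_ (Over (Spec (S.residueField s)))).left :=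
    inferInstanceAs (Nonempty ↥(Spec (S.residueField s)))
  have hcc : connectedComponent (η[Red.bc (S.fromSpecResidueField s) N].left p) = Set.range (fib s j).left :=
    (range_eq_connectedComponent (K := S.residueField s) (fib s j) p).symm
  rw [← image_connectedComponent s p, hcc, ← Set.range_comp,
    ← range_ιs H s, ← Set.range_comp]
  exact congrArg Set.range (funext fun y => by
    simp only [Function.comp_apply]
    rw [← Scheme.Hom.comp_apply, ← Scheme.Hom.comp_apply, fib_fiberι])

include hconn in
theorem range_eq_neutralSet (h : ∀ s : S, IsOpenImmersion (fib s j).left) :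
    Set.range j.left = SGA3x.neutralSet N := by
  ext x
  constructor
  · rintro ⟨y, rfl⟩
    haveI := h (H.hom y)
    exact ((image_fibre j hconn (H.hom y)).le ⟨y, rfl, rfl⟩).1
  · intro hx
    haveI := h (N.hom x)
    obtain ⟨y, -, hy⟩ := (image_fibre j hconn (N.hom x)).ge ⟨hx, rfl⟩
    exact ⟨y, hy⟩

omit [GrpObj H] [GrpObj N] [IsMonHom j] in
theorem isOpenImmersion_of_fib [Smooth H.hom] [LocallyOfFiniteType N.hom]
    (h : ∀ s : S, IsOpenImmersion (fib s j).left) : IsOpenImmersion j.left := by
  haveI : LocallyOfFinitePresentation (j.left ≫ N.hom) := by rw [Over.w]; infer_instance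
  haveI : Flat (j.left ≫ N.hom) := by rw [Over.w]; infer_instance
  refine FlatLocus.isOpenImmersion_of_fibres j.left N.hom fun s => ?_
  haveI := h s
  let e := (isPullback_fib s j).isoPullback
  have he : e.hom ≫ pullback.snd j.left (ιs N s) = (fib s j).left := (isPullback_fib s j).isoPullback_hom_snd
  show IsOpenImmersion (pullback.snd j.left (ιs N s))
  rw [← show e.inv ≫ (fib s j).left = _ from (Iso.inv_comp_eq e).2 he.symm]
  infer_instance

include hconn in
theorem fib_of_functor [Mono j] [LocallyOfFiniteType N.hom]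
    (hf : ∀ (T : Over S) (g : T ⟶ N), (∃ h : T ⟶ H, h ≫ j = g) ↔ Set.range g.left.base ⊆ SGA3x.neutralSet N)
    (s : S) : IsOpenImmersion (fib s j).left := by
  haveI := connectedSpace_fibre hconn s
  obtain ⟨p⟩ : Nonempty ↥(𝟙_ (Over (Spec (S.residueField s)))).left :=
    inferInstanceAs (Nonempty ↥(Spec (S.residueField s)))
  let Ns := Red.bc (S.fromSpecResidueField s) N
  haveI : LocallyOfFiniteType Ns.hom := MorphismProperty.pullback_snd _ _ ‹_›
  haveI : Mono (fib s j) := inferInstance
  haveI : Mono (fib s j).left := (Over.forget (Spec (S.residueField s))).map_mono (fib s j)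
  let C : Ns.left.Opens := ⟨connectedComponent (η[Ns].left p), by
    rw [GrpSchLib.connectedComponent_eq]; exact GrpSchLib.isOpen_irreducibleComponent _⟩
  have hmem : η[Ns].left p ∈ Set.range (fib s j).left := ⟨η[Red.bc (S.fromSpecResidueField s) H].left p, by
    rw [← Scheme.Hom.comp_apply, ← Over.comp_left, IsMonHom.one_hom]⟩
  have hsub : Set.range (fib s j).left ⊆ Set.range C.ι := by
    rw [Scheme.Opens.range_ι]
    exact (isConnected_range (fib s j).left.continuous).isPreconnected.subset_connectedComponent hmem
  let T : Over S := Over.mk ((C.ι ≫ ιs N s) ≫ N.hom)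
  let g : T ⟶ N := Over.homMk (C.ι ≫ ιs N s) rfl
  have hg : Set.range g.left.base ⊆ SGA3x.neutralSet N := by
    rintro _ ⟨y, rfl⟩
    exact ((image_connectedComponent s p).le ⟨C.ι y, y.2, rfl⟩).1
  obtain ⟨h, hh⟩ := (hf T g).2 hg
  have hh' : h.left ≫ j.left = C.ι ≫ ιs N s := congrArg CommaMorphism.left hh
  let b := (isPullback_fib s j).lift h.left C.ι hh'
  have hb : b ≫ (fib s j).left = C.ι := (isPullback_fib s j).lift_snd _ _ _
  let a := IsOpenImmersion.lift C.ι (fib s j).left hsub
  have ha : a ≫ C.ι = (fib s j).left := IsOpenImmersion.lift_fac _ _ _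
  haveI : IsIso a := ⟨b, by rw [← cancel_mono (fib s j).left, Category.assoc, hb, ha, Category.id_comp],
    by rw [← cancel_mono C.ι, Category.assoc, ha, hb, Category.id_comp]⟩
  rw [← ha]
  infer_instance

end Groth.Agent.OpenSubgrp

end
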